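import Cfsg.Agent.H780.D4.Stmts

/-!
# S5261, task D3-LIN1 (helper673): `StLin1` from `StRk1` and `StLin1b`

Plan: `outputs/live/tools/plans/S5261_L.md`, section 5.  Parts: the actions of `u1 a` and of the torus on `V₁`; the Sylow
subgroup `P₀`, the torus `H`, the opposite Sylow subgroup fixed by `H` (averaging a cocycle); the identification of the
field; the main theorem `stLin1`.
-/

set_option autoImplicit false
set_option linter.unusedSectionVars false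

namespace Cfsg.Agent.H673.D4

open Cfsg Cfsg.Agent.H765.D3 Cfsg.Agent.H780.D4
open Cfsg.Agent.Hex.Defs (sh cr nm tr)
open scoped Pointwise

universe u

section Act
variable {F K : Type u} [Field F] [Field K] [Algebra F K] (φ : K ≃ₐ[F] K) [Cub φ]

/-- the action of `u1 a` as a function -/
noncomputable def aF (a : K) (v : V1 F K) : V1 F K :=
  (v.1, v.2.1 + v.1 • a, v.2.2.1 + cr φ a v.2.1 + v.1 • sh φ a,
    v.2.2.2 + tr φ (a * v.2.2.1) + tr φ (sh φ a * v.2.1) + v.1 * nm φ a)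

theorem aF_add (a b : K) (v : V1 F K) : aF φ a (aF φ b v) = aF φ (a + b) v := by
  obtain ⟨v0, v1, v2, v3⟩ := v
  refine Prod.ext rfl (Prod.ext ?_ (Prod.ext ?_ ?_))
  · show v1 + v0 • b + v0 • a = v1 + v0 • (a + b)
    rw [smul_add]; ring
  · show v2 + cr φ b v1 + v0 • sh φ b + cr φ a (v1 + v0 • b) + v0 • sh φ a =
      v2 + cr φ (a + b) v1 + v0 • sh φ (a + b)
    cub
  · show v3 + tr φ (b * v2) + tr φ (sh φ b * v1) + v0 * nm φ b + tr φ (a * (v2 + cr φ b v1 + v0 • sh φ b)) +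
      tr φ (sh φ a * (v1 + v0 • b)) + v0 * nm φ a =
      v3 + tr φ ((a + b) * v2) + tr φ (sh φ (a + b) * v1) + v0 * nm φ (a + b)
    apply (algebraMap F K).injective
    cub

theorem aF_zero (v : V1 F K) : aF φ 0 v = v := by
  obtain ⟨v0, v1, v2, v3⟩ := v
  refine Prod.ext rfl (Prod.ext ?_ (Prod.ext ?_ ?_))
  · show v1 + v0 • (0 : K) = v1
    simp
  · show v2 + cr φ 0 v1 + v0 • sh φ 0 = v2
    cub
  · show v3 + tr φ (0 * v2) + tr φ (sh φ 0 * v1) + v0 * nm φ 0 = v3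
    apply (algebraMap F K).injective
    cub

/-- the action of `u1 a` as a permutation -/
noncomputable def aP (a : K) : Equiv.Perm (V1 F K) where
  toFun := aF φ a
  invFun := aF φ (-a)
  left_inv v := by rw [aF_add, neg_add_cancel, aF_zero]
  right_inv v := by rw [aF_add, add_neg_cancel, aF_zero]

theorem isActV_aP (a : K) : IsActV φ (aP φ a) a := fun _ => rfl

theorem isActV_iff {g : Equiv.Perm (V1 F K)} {a : K} : IsActV φ g a ↔ g = aP φ a := by
  constructor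
  · intro h
    ext1 v
    exact h v
  · rintro rfl
    exact isActV_aP φ a

theorem aP_add (a b : K) : aP φ (a + b) = aP φ a * aP φ b := by
  ext1 v
  exact (aF_add φ a b v).symm

theorem aP_zero : aP φ (0 : K) = 1 := by
  ext1 v
  exact aF_zero φ v

theorem aP_neg (a : K) : aP φ (-a) = (aP φ a)⁻¹ := by
  rw [eq_inv_iff_mul_eq_one, ← aP_add, neg_add_cancel, aP_zero]

theorem aP_injective : Function.Injective (aP φ) := by
  intro a b h
  have h1 := congrArg (fun g : Equiv.Perm (V1 F K) => (g (1, 0, 0, 0)).2.1) h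
  change (0 : K) + (1 : F) • a = 0 + (1 : F) • b at h1
  simpa using h1

theorem aP_nsmul (a : K) (m : ℕ) : aP φ (m • a) = aP φ a ^ m := by
  induction m with
  | zero => rw [zero_smul, aP_zero, pow_zero]
  | succ m ih => rw [succ_nsmul, aP_add, ih, pow_succ]

/-- `V₁` is an additive group and `aP a` is additive -/
theorem aP_map_add (a : K) (v w : V1 F K) : aP φ a (v + w) = aP φ a v + aP φ a w := by
  obtain ⟨v0, v1, v2, v3⟩ := v
  obtain ⟨w0, w1, w2, w3⟩ := w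
  refine Prod.ext rfl (Prod.ext ?_ (Prod.ext ?_ ?_))
  · show v1 + w1 + (v0 + w0) • a = v1 + v0 • a + (w1 + w0 • a)
    rw [add_smul]; ring
  · show v2 + w2 + cr φ a (v1 + w1) + (v0 + w0) • sh φ a = v2 + cr φ a v1 + v0 • sh φ a + (w2 + cr φ a w1 + w0 • sh φ a)
    cub
  · show v3 + w3 + tr φ (a * (v2 + w2)) + tr φ (sh φ a * (v1 + w1)) + (v0 + w0) * nm φ a =
      v3 + tr φ (a * v2) + tr φ (sh φ a * v1) + v0 * nm φ a + (w3 + tr φ (a * w2) + tr φ (sh φ a * w1) + w0 * nm φ a)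
    apply (algebraMap F K).injective
    cub

theorem formV_aP (a : K) (v w : V1 F K) : formV φ (aP φ a v) (aP φ a w) = formV φ v w := by
  obtain ⟨v0, v1, v2, v3⟩ := v
  obtain ⟨w0, w1, w2, w3⟩ := w
  show v0 * (w3 + tr φ (a * w2) + tr φ (sh φ a * w1) + w0 * nm φ a) -
      (v3 + tr φ (a * v2) + tr φ (sh φ a * v1) + v0 * nm φ a) * w0 -
      tr φ ((v1 + v0 • a) * (w2 + cr φ a w1 + w0 • sh φ a)) + tr φ ((v2 + cr φ a v1 + v0 • sh φ a) * (w1 + w0 • a)) =
    v0 * w3 - v3 * w0 - tr φ (v1 * w2) + tr φ (v2 * w1)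
  apply (algebraMap F K).injective
  cub

/-! ### The torus -/

section
variable {φ}
variable {g g' : Equiv.Perm (V1 F K)} {s s' : K} {t t' : F} {τ τ' : K ≃+* K} {ρ ρ' : F ≃+* F}

theorem torV_ext (h : IsTorV φ g s t τ ρ) (h' : IsTorV φ g' s t τ ρ) : g = g' := by
  ext1 v
  rw [h.app, h'.app]

theorem torV_uniq (h : IsTorV φ g s t τ ρ) (h' : IsTorV φ g s' t' τ' ρ') : s = s' ∧ t = t' ∧ τ = τ' ∧ ρ = ρ' := by
  have ht : t = t' := by
    have e := (h.app (1, 0, 0, 0)).symm.trans (h'.app (1, 0, 0, 0))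
    have e1 := congrArg Prod.fst e
    simpa using e1
  subst ht
  have hρ : ρ = ρ' := by
    ext c
    have e := (h.app (c, 0, 0, 0)).symm.trans (h'.app (c, 0, 0, 0))
    have e1 : t * ρ c = t * ρ' c := congrArg Prod.fst e
    exact mul_left_cancel₀ h.net e1
  have key : ∀ a : K, s * τ a = s' * τ' a := by
    intro a
    have e := (h.app (0, a, 0, 0)).symm.trans (h'.app (0, a, 0, 0))
    have e1 : t • (s * τ a) = t • (s' * τ' a) := congrArg (fun v : V1 F K => v.2.1) e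
    exact smul_right_injective K h.net e1
  have hs : s = s' := by simpa using key 1
  subst hs
  refine ⟨rfl, rfl, ?_, hρ⟩
  ext a
  exact mul_left_cancel₀ h.nes (key a)

theorem torV_map_add (h : IsTorV φ g s t τ ρ) (v w : V1 F K) : g (v + w) = g v + g w := by
  rw [h.app, h.app, h.app]
  refine Prod.ext ?_ (Prod.ext ?_ (Prod.ext ?_ ?_))
  · show t * ρ (v.1 + w.1) = t * ρ v.1 + t * ρ w.1
    rw [map_add, mul_add]
  · show t • (s * τ (v.2.1 + w.2.1)) = t • (s * τ v.2.1) + t • (s * τ w.2.1)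
    rw [map_add, mul_add, smul_add]
  · show t • (sh φ s * τ (v.2.2.1 + w.2.2.1)) = t • (sh φ s * τ v.2.2.1) + t • (sh φ s * τ w.2.2.1)
    rw [map_add, mul_add, smul_add]
  · show nm φ s * t * ρ (v.2.2.2 + w.2.2.2) = nm φ s * t * ρ v.2.2.2 + nm φ s * t * ρ w.2.2.2
    rw [map_add, mul_add]

variable {p n : ℕ}

theorem tau_phi (hy : HypD φ p n) (τ : K ≃+* K) (a : K) : τ (φ a) = φ (τ a) := by
  rw [hy.phi, hy.phi, map_pow]

theorem tau_sh (hy : HypD φ p n) (τ : K ≃+* K) (a : K) : τ (sh φ a) = sh φ (τ a) := by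
  simp only [sh, map_mul, tau_phi hy]

theorem tau_cr (hy : HypD φ p n) (τ : K ≃+* K) (a b : K) : τ (cr φ a b) = cr φ (τ a) (τ b) := by
  simp only [cr, map_mul, map_add, tau_phi hy]

theorem rho_tr (hy : HypD φ p n) (hr : ∀ x : F, τ (algebraMap F K x) = algebraMap F K (ρ x)) (a : K) :
    ρ (tr φ a) = tr φ (τ a) := by
  apply (algebraMap F K).injective
  rw [← hr, coe_tr, coe_tr, map_add, map_add, tau_phi hy, tau_phi hy, tau_phi hy]

theorem rho_nm (hy : HypD φ p n) (hr : ∀ x : F, τ (algebraMap F K x) = algebraMap F K (ρ x)) (a : K) :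
    ρ (nm φ a) = nm φ (τ a) := by
  apply (algebraMap F K).injective
  rw [← hr, coe_nm, coe_nm, map_mul, map_mul, tau_phi hy, tau_phi hy, tau_phi hy]

theorem tau_smul (hr : ∀ x : F, τ (algebraMap F K x) = algebraMap F K (ρ x)) (c : F) (a : K) :
    τ (c • a) = ρ c • τ a := by
  rw [Algebra.smul_def, Algebra.smul_def, map_mul, hr]

theorem torV_conj (hy : HypD φ p n) (h : IsTorV φ g s t τ ρ) (a : K) : g * aP φ a = aP φ (s * τ a) * g := by
  ext1 v
  rw [Equiv.Perm.mul_apply, Equiv.Perm.mul_apply, h.app, h.app]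
  obtain ⟨v0, v1, v2, v3⟩ := v
  refine Prod.ext rfl (Prod.ext ?_ (Prod.ext ?_ ?_))
  · show t • (s * τ (v1 + v0 • a)) = t • (s * τ v1) + (t * ρ v0) • (s * τ a)
    rw [map_add, tau_smul h.res]
    simp only [Algebra.smul_def, map_mul]
    ring
  · show t • (sh φ s * τ (v2 + cr φ a v1 + v0 • sh φ a)) =
      t • (sh φ s * τ v2) + cr φ (s * τ a) (t • (s * τ v1)) + (t * ρ v0) • sh φ (s * τ a)
    rw [map_add, map_add, tau_smul h.res, tau_cr hy, tau_sh hy]
    cub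
  · show nm φ s * t * ρ (v3 + tr φ (a * v2) + tr φ (sh φ a * v1) + v0 * nm φ a) =
      nm φ s * t * ρ v3 + tr φ (s * τ a * (t • (sh φ s * τ v2))) + tr φ (sh φ (s * τ a) * (t • (s * τ v1))) +
        t * ρ v0 * nm φ (s * τ a)
    rw [map_add, map_add, map_add, map_mul, rho_tr hy h.res, rho_tr hy h.res, rho_nm hy h.res, map_mul, map_mul,
      tau_sh hy]
    apply (algebraMap F K).injective
    cub

theorem formV_torV (hy : HypD φ p n) (h : IsTorV φ g s t τ ρ) (v w : V1 F K) :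
    formV φ (g v) (g w) = nm φ s * t ^ 2 * ρ (formV φ v w) := by
  rw [h.app, h.app]
  obtain ⟨v0, v1, v2, v3⟩ := v
  obtain ⟨w0, w1, w2, w3⟩ := w
  show t * ρ v0 * (nm φ s * t * ρ w3) - nm φ s * t * ρ v3 * (t * ρ w0) - tr φ (t • (s * τ v1) * (t • (sh φ s * τ w2))) +
      tr φ (t • (sh φ s * τ v2) * (t • (s * τ w1))) =
    nm φ s * t ^ 2 * ρ (v0 * w3 - v3 * w0 - tr φ (v1 * w2) + tr φ (v2 * w1))
  rw [map_add, map_sub, map_sub, map_mul, map_mul, rho_tr hy h.res, rho_tr hy h.res, map_mul, map_mul]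
  apply (algebraMap F K).injective
  cub

end

end Act

section Grp

variable {F K : Type u} [Field F] [Field K] [Algebra F K] {φ : K ≃ₐ[F] K} [Cub φ] {p n : ℕ}

theorem finF (hy : HypD φ p n) : Finite F := by
  have := hy.fin
  exact Finite.of_injective (algebraMap F K) (algebraMap F K).injective

theorem aP_pow_p (hy : HypD φ p n) (a : K) : aP φ a ^ p = 1 := by
  have := hy.char
  rw [← aP_nsmul, nsmul_eq_mul, CharP.cast_eq_zero, zero_mul, aP_zero]

theorem exists_syl (hy : HypD φ p n) [Fact p.Prime] {G : Subgroup (Equiv.Perm (V1 F K))}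
    {Dc : Set (K × F × (K ≃+* K) × (F ≃+* F))} (hL : LPar φ p G Dc) :
    ∃ P0 : Sylow p ↥G, ∀ z : ↥G, z ∈ (P0 : Subgroup ↥G) ↔ ∃ a, (z : Equiv.Perm (V1 F K)) = aP φ a := by
  have := hy.fin
  have := finF hy
  let T : Subgroup ↥G :=
    { carrier := {z | ∃ a, (z : Equiv.Perm (V1 F K)) = aP φ a}
      one_mem' := ⟨0, by rw [aP_zero]; rfl⟩
      mul_mem' := by
        rintro x y ⟨a, ha⟩ ⟨b, hb⟩
        exact ⟨a + b, by rw [aP_add, ← ha, ← hb]; rfl⟩
      inv_mem' := by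
        rintro x ⟨a, ha⟩
        exact ⟨-a, by rw [aP_neg, ← ha]; rfl⟩ }
  have hT : IsPGroup p T := by
    rintro ⟨z, a, ha⟩
    refine ⟨1, Subtype.ext (Subtype.ext ?_)⟩
    show (z : Equiv.Perm (V1 F K)) ^ p ^ 1 = 1
    rw [pow_one, ha, aP_pow_p hy]
  obtain ⟨Q, hQ⟩ := hT.exists_le_sylow
  refine ⟨Q, ?_⟩
  suffices h : (Q : Subgroup ↥G) = T by
    intro z
    rw [h]
    rfl
  symm
  obtain ⟨g, hg, hgx⟩ := hL.syl ((Q : Subgroup ↥G).map G.subtype) (by
    rintro _ ⟨x, -, rfl⟩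
    exact x.2) (Q.isPGroup'.map _)
  refine Subgroup.eq_of_le_of_card_ge hQ ?_
  refine Nat.card_le_card_of_injective
    (fun x : ↥(Q : Subgroup ↥G) => (⟨⟨g, hg⟩ * x.1 * ⟨g, hg⟩⁻¹, by
      obtain ⟨a, ha⟩ := hgx x.1 ⟨x.1, x.2, rfl⟩
      exact ⟨a, (isActV_iff φ).1 ha⟩⟩ : ↥T)) ?_
  intro x y hxy
  have h1 := congrArg Subtype.val hxy
  simp only at h1
  exact Subtype.ext (mul_left_cancel (mul_right_cancel h1))

/-- the situation -/
structure Ctx (φ : K ≃ₐ[F] K) [Cub φ] (p n : ℕ) [Fact p.Prime] (G : Subgroup (Equiv.Perm (V1 F K)))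
    (Dc : Set (K × F × (K ≃+* K) × (F ≃+* F))) (H : Subgroup (Equiv.Perm (V1 F K))) (P0 : Sylow p ↥G) : Prop where
  hy : HypD φ p n
  hL : LPar φ p G Dc
  mem : ∀ z : ↥G, z ∈ (P0 : Subgroup ↥G) ↔ ∃ a, (z : Equiv.Perm (V1 F K)) = aP φ a
  cop : (Nat.card H).Coprime p
  memH : ∀ g, g ∈ H ↔ ∃ s t τ ρ, (s, t, τ, ρ) ∈ Dc ∧ IsTorV φ g s t τ ρ

theorem smul_eq_of {G : Type*} [Group G] {p : ℕ} (g : G) (P Q : Sylow p G)
    (h : ∀ x ∈ (P : Subgroup G), g * x * g⁻¹ ∈ (Q : Subgroup G)) : g • P = Q := by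
  symm
  apply Sylow.ext
  apply (g • P).is_maximal' Q.isPGroup'
  intro y hy
  obtain ⟨x, hx, rfl⟩ := hy
  exact h x hx

theorem conj_mem_smul {G : Type*} [Group G] {p : ℕ} (g : G) (P : Sylow p G) {x : G} (hx : x ∈ (P : Subgroup G)) :
    g * x * g⁻¹ ∈ ((g • P : Sylow p G) : Subgroup G) := ⟨x, hx, rfl⟩

theorem of_mem_smul {G : Type*} [Group G] {p : ℕ} (g : G) (P : Sylow p G) {y : G}
    (hy : y ∈ ((g • P : Sylow p G) : Subgroup G)) : ∃ x ∈ (P : Subgroup G), y = g * x * g⁻¹ := by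
  obtain ⟨x, hx, rfl⟩ := hy
  exact ⟨x, hx, rfl⟩

section
variable [Fact p.Prime] {G : Subgroup (Equiv.Perm (V1 F K))} {Dc : Set (K × F × (K ≃+* K) × (F ≃+* F))}
  {H : Subgroup (Equiv.Perm (V1 F K))} {P0 : Sylow p ↥G} (C : Ctx φ p n G Dc H P0)

include C in
theorem finV : Finite (V1 F K) := by
  have := C.hy.fin
  have := finF C.hy
  infer_instance

/-- `x a` in `G` -/
noncomputable def xG (a : K) : ↥G := ⟨aP φ a, C.hL.act a _ (isActV_aP φ a)⟩

theorem coe_xG (a : K) : ((xG C a : ↥G) : Equiv.Perm (V1 F K)) = aP φ a := rfl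

theorem xG_mem (a : K) : xG C a ∈ (P0 : Subgroup ↥G) := (C.mem _).2 ⟨a, rfl⟩

theorem xG_add (a b : K) : xG C (a + b) = xG C a * xG C b := Subtype.ext (aP_add φ a b)

theorem xG_zero : xG C 0 = 1 := Subtype.ext (aP_zero φ)

theorem xG_neg (a : K) : xG C (-a) = (xG C a)⁻¹ := Subtype.ext (aP_neg φ a)

theorem xG_injective : Function.Injective (xG C) := fun _ _ h =>
  aP_injective φ (congrArg (Subtype.val : ↥G → Equiv.Perm (V1 F K)) h)

theorem exists_xG {z : ↥G} (hz : z ∈ (P0 : Subgroup ↥G)) : ∃ a, z = xG C a := by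
  obtain ⟨a, ha⟩ := (C.mem z).1 hz
  exact ⟨a, Subtype.ext ha⟩

include C in
theorem H_le : H ≤ G := by
  intro g hg
  obtain ⟨s, t, τ, ρ, hD, hT⟩ := (C.memH g).1 hg
  obtain ⟨g', hg', hT'⟩ := C.hL.tor s t τ ρ hD
  rw [torV_ext hT hT']
  exact hg'

include C in
theorem ti {g x : ↥G} (hx : x ∈ (P0 : Subgroup ↥G)) (hx1 : x ≠ 1) (hgx : g * x * g⁻¹ ∈ (P0 : Subgroup ↥G)) :
    g • P0 = P0 := by
  refine smul_eq_of g P0 P0 fun y hy => ?_
  obtain ⟨a, ha⟩ := (C.mem x).1 hx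
  obtain ⟨b, hb⟩ := (C.mem y).1 hy
  obtain ⟨c, hc⟩ := (C.mem _).1 hgx
  refine (C.mem _).2 ?_
  have h1 : (x : Equiv.Perm (V1 F K)) ≠ 1 := fun h => hx1 (Subtype.ext h)
  obtain ⟨d, hd⟩ := C.hL.ti g.1 g.2 a x.1 ((isActV_iff φ).2 ha) h1 ⟨c, (isActV_iff φ).2 hc⟩ b y.1
    ((isActV_iff φ).2 hb)
  exact ⟨d, (isActV_iff φ).1 hd⟩

include C in
theorem fixfree {Q : Sylow p ↥G} (hQ : Q ≠ P0) {x : ↥G} (hx : x ∈ (P0 : Subgroup ↥G)) (hxQ : x • Q = Q) : x = 1 := by
  have := finV C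
  obtain ⟨g, rfl⟩ := MulAction.exists_smul_eq ↥G P0 Q
  have h1 : x ∈ Subgroup.normalizer ((g • P0 : Sylow p ↥G) : Set ↥G) := Sylow.smul_eq_iff_mem_normalizer.1 hxQ
  have h2 : x ∈ (P0 : Subgroup ↥G) ⊓ Subgroup.normalizer ((g • P0 : Sylow p ↥G) : Set ↥G) := ⟨hx, h1⟩
  rw [IsPGroup.inf_normalizer_sylow P0.isPGroup'] at h2
  obtain ⟨y, hy, hxy⟩ := of_mem_smul g P0 h2.2
  by_contra hne
  apply hQ
  refine ti C hy ?_ (hxy ▸ hx)
  rintro rfl
  exact hne (by rw [hxy]; group)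

theorem xG_uniq {Q : Sylow p ↥G} (hQ : Q ≠ P0) {a b : K} (h : xG C a • Q = xG C b • Q) : a = b := by
  have h1 : xG C (-b + a) • Q = Q := by
    rw [xG_add, mul_smul, h, ← mul_smul, ← xG_add, neg_add_cancel, xG_zero, one_smul]
  have h2 := fixfree C hQ (xG_mem C _) h1
  have h3 : -b + a = 0 := xG_injective C (h2.trans (xG_zero C).symm)
  exact (neg_add_eq_zero.1 h3).symm

theorem H_conj {h : ↥G} (hh : (h : Equiv.Perm (V1 F K)) ∈ H) :
    ∃ m : K →+ K, ∀ a, h * xG C a = xG C (m a) * h := by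
  obtain ⟨s, t, τ, ρ, hD, hT⟩ := (C.memH _).1 hh
  refine ⟨(AddMonoidHom.mulLeft s).comp (τ : K →+* K).toAddMonoidHom, fun a => Subtype.ext ?_⟩
  exact torV_conj C.hy hT a

include C in
theorem H_smul {h : ↥G} (hh : (h : Equiv.Perm (V1 F K)) ∈ H) : h • P0 = P0 := by
  obtain ⟨m, hm⟩ := H_conj C hh
  refine smul_eq_of h P0 P0 fun x hx => ?_
  obtain ⟨a, rfl⟩ := exists_xG C hx
  rw [hm, mul_inv_cancel_right]
  exact xG_mem C _

/-- the torus as a homomorphism to `G` -/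
noncomputable def hG : ↥H →* ↥G := Subgroup.inclusion (H_le C)

theorem coe_hG (h : ↥H) : ((hG C h : ↥G) : Equiv.Perm (V1 F K)) = h := rfl

include C in
/-- **a `p'`-group normalizing `P₀` fixes another Sylow subgroup** -/
theorem exists_fixed (hA : ∀ P' P'' : Sylow p ↥G, P' ≠ P0 → P'' ≠ P0 → ∃ x ∈ (P0 : Subgroup ↥G), x • P' = P'') :
    ∃ P' : Sylow p ↥G, P' ≠ P0 ∧ ∀ h : ↥H, hG C h • P' = P' := by
  have := C.hy.fin
  have := finV C
  have := C.hy.char
  obtain ⟨P1, hP1⟩ : ∃ P1 : Sylow p ↥G, P1 ≠ P0 := by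
    obtain ⟨g, hg, a, x, hx, hn⟩ := C.hL.nn
    refine ⟨(⟨g, hg⟩ : ↥G) • P0, fun h => hn ?_⟩
    rw [isActV_iff] at hx
    subst hx
    have h1 := conj_mem_smul (⟨g, hg⟩ : ↥G) P0 (xG_mem C a)
    rw [h] at h1
    obtain ⟨b, hb⟩ := (C.mem _).1 h1
    exact ⟨b, (isActV_iff φ).2 hb⟩
  have hne : ∀ h : ↥H, hG C h • P1 ≠ P0 := by
    intro h h1
    apply hP1
    have h2 : hG C h • P0 = P0 := H_smul C h.2
    exact smul_left_cancel _ (h1.trans h2.symm)
  have hex : ∀ h : ↥H, ∃ c : K, xG C c • P1 = hG C h • P1 := by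
    intro h
    obtain ⟨x, hx, hx1⟩ := hA P1 _ hP1 (hne h)
    obtain ⟨a, rfl⟩ := exists_xG C hx
    exact ⟨a, hx1⟩
  choose c hc using hex
  have hex2 : ∀ h : ↥H, ∃ m : K →+ K, ∀ a, hG C h * xG C a = xG C (m a) * hG C h := fun h => H_conj C h.2
  choose m hm using hex2
  have hcoc : ∀ h h' : ↥H, c (h * h') = m h (c h') + c h := by
    intro h h'
    apply xG_uniq C hP1
    rw [hc, map_mul, mul_smul, ← hc h', ← mul_smul, hm, mul_smul, ← hc h, ← mul_smul, ← xG_add]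
  let _ : Fintype ↥H := Fintype.ofFinite _
  have hN : ((Nat.card ↥H : ℕ) : K) ≠ 0 := by
    intro h0
    have h1 := (CharP.cast_eq_zero_iff K p (Nat.card ↥H)).1 h0
    exact (Nat.Prime.coprime_iff_not_dvd (Fact.out : p.Prime)).1 C.cop.symm h1
  have hsum : ∀ h : ↥H, m h (∑ h', c h') = (∑ h', c h') - (Nat.card ↥H : K) * c h := by
    intro h
    rw [map_sum]
    have h1 : ∀ h' : ↥H, m h (c h') = c (h * h') - c h := fun h' => by rw [hcoc, add_sub_cancel_right]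
    have h2 : ∑ h', c (h * h') = ∑ h', c h' := Equiv.sum_comp (Equiv.mulLeft h) c
    rw [Finset.sum_congr rfl fun h' _ => h1 h', Finset.sum_sub_distrib, h2,
      Finset.sum_const, nsmul_eq_mul, Finset.card_univ, Nat.card_eq_fintype_card]
  refine ⟨xG C ((Nat.card ↥H : K)⁻¹ * ∑ h', c h') • P1, fun h => ?_, fun h => ?_⟩
  · apply hP1
    have h1 : xG C ((Nat.card ↥H : K)⁻¹ * ∑ h', c h') • P0 = P0 :=
      smul_eq_of _ P0 P0 fun x hx => mul_mem (mul_mem (xG_mem C _) hx) (inv_mem (xG_mem C _))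
    exact smul_left_cancel _ (h.trans h1.symm)
  · rw [← mul_smul, hm, mul_smul, ← hc h, ← mul_smul, ← xG_add]
    congr 2
    apply mul_left_cancel₀ hN
    rw [mul_add, ← nsmul_eq_mul, ← map_nsmul, nsmul_eq_mul, mul_inv_cancel_left₀ hN, hsum]
    ring

include C in
theorem mem_H_of {P' : Sylow p ↥G} (hP' : P' ≠ P0) (hfix : ∀ h : ↥H, hG C h • P' = P') {z : ↥G} (h0 : z • P0 = P0)
    (h1 : z • P' = P') : (z : Equiv.Perm (V1 F K)) ∈ H := by
  obtain ⟨s, t, τ, ρ, hD, x, y, ⟨a, hx⟩, hy, hxy⟩ := C.hL.norm z.1 z.2 (by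
    intro a x hx
    rw [isActV_iff] at hx
    subst hx
    have h2 := conj_mem_smul z P0 (xG_mem C a)
    rw [h0] at h2
    obtain ⟨b, hb⟩ := (C.mem _).1 h2
    exact ⟨b, (isActV_iff φ).2 hb⟩)
  rw [isActV_iff] at hx
  subst hx
  have hyH : y ∈ H := (C.memH y).2 ⟨s, t, τ, ρ, hD, hy⟩
  have h2 : z = xG C a * hG C ⟨y, hyH⟩ := Subtype.ext hxy
  have h3 : xG C a • P' = P' := by
    rw [h2, mul_smul, hfix] at h1
    exact h1
  rw [fixfree C hP' (xG_mem C a) h3, one_mul] at h2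
  rw [h2]
  exact hyH

theorem ap_inv {α : Type*} (g : Equiv.Perm α) (x : α) : g (g⁻¹ x) = x := Equiv.apply_symm_apply g x

/-- the form is preserved -/
def Pres (φ : K ≃ₐ[F] K) (g : Equiv.Perm (V1 F K)) : Prop := ∀ v w : V1 F K, formV φ (g v) (g w) = formV φ v w

omit [Cub φ] in
theorem Pres.mul {g h : Equiv.Perm (V1 F K)} (hg : Pres φ g) (hh : Pres φ h) : Pres φ (g * h) := fun v w => by
  rw [Equiv.Perm.mul_apply, Equiv.Perm.mul_apply, hg, hh]

omit [Cub φ] in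
theorem Pres.inv {g : Equiv.Perm (V1 F K)} (hg : Pres φ g) : Pres φ g⁻¹ := fun v w => by
  have h := hg (g⁻¹ v) (g⁻¹ w)
  rw [ap_inv, ap_inv] at h
  exact h.symm

include C in
theorem pres_of_mem {Q : Sylow p ↥G} {z : ↥G} (hz : z ∈ (Q : Subgroup ↥G)) : Pres φ (z : Equiv.Perm (V1 F K)) := by
  have := finV C
  obtain ⟨g, rfl⟩ := MulAction.exists_smul_eq ↥G P0 Q
  obtain ⟨x, hx, rfl⟩ := of_mem_smul g P0 hz
  obtain ⟨a, rfl⟩ := exists_xG C hx
  obtain ⟨ζ, hζ⟩ := C.hL.frm g.1 g.2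
  intro v w
  show formV φ (g.1 (aP φ a (g.1⁻¹ v))) (g.1 (aP φ a (g.1⁻¹ w))) = formV φ v w
  rw [hζ, formV_aP, ← hζ, ap_inv, ap_inv]

end

end Grp

section Field
variable {F K : Type u} [Field F] [Field K] [Algebra F K] {φ : K ≃ₐ[F] K} [Cub φ] {p n : ℕ}

theorem two_le (hy : HypD φ p n) : 2 ≤ p ^ n :=
  le_trans hy.pp.two_le (Nat.le_self_pow (Nat.one_le_iff_ne_zero.1 hy.hn) p)

theorem card_gal (hy : HypD φ p n) : Nat.card (K ≃ₐ[F] K) = 3 := by
  have := hy.fin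
  have := finF hy
  rw [IsGalois.card_aut_eq_finrank]
  have h := Module.natCard_eq_pow_finrank (K := F) (V := K)
  rw [hy.card, hy.cardK] at h
  exact (Nat.pow_right_injective (two_le hy) h).symm

theorem gal_cube (hy : HypD φ p n) (σ : K ≃ₐ[F] K) (a : K) : σ (σ (σ a)) = a := by
  have h : σ ^ 3 = 1 := by
    rw [← card_gal hy]
    exact pow_card_eq_one'
  have h1 := DFunLike.congr_fun h a
  rw [pow_succ, pow_two] at h1
  exact h1

theorem gal_fixed (hy : HypD φ p n) {σ : K ≃ₐ[F] K} (h : σ ≠ 1) {x : K} (hx : σ x = x) :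
    ∃ c : F, algebraMap F K c = x := by
  have : Fact (Nat.Prime 3) := ⟨Nat.prime_three⟩
  obtain ⟨i, hi⟩ := mem_zpowers_of_prime_card (card_gal hy) (g' := φ) h
  apply exists_coe φ
  have h1 : ∀ i : ℤ, (σ ^ i) x = x := by
    intro i
    have h2 : σ ∈ MulAction.stabilizer (K ≃ₐ[F] K) x := hx
    exact zpow_mem h2 i
  have h3 := h1 i
  simp only at hi
  rw [hi] at h3
  exact h3

/-- squares generate a finite field additively -/
theorem add_squares {k : Type*} [Field k] [Finite k] (A : AddSubgroup k) (h : ∀ a : k, a ^ 2 ∈ A) (a : k) : a ∈ A := by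
  by_cases h2 : (2 : k) = 0
  · have h3 : ringChar k = 2 := CharP.ringChar_of_prime_eq_zero Nat.prime_two (by exact_mod_cast h2)
    obtain ⟨b, hb⟩ := FiniteField.isSquare_of_char_two h3 a
    rw [hb, ← pow_two]
    exact h b
  · have h3 : a = ((a + 1) / 2) ^ 2 - ((a - 1) / 2) ^ 2 := by
      field_simp
      ring
    rw [h3]
    exact sub_mem (h _) (h _)

end Field

section Rel
variable {Γ k : Type*} [Group Γ] [Field k] {x y : k → Γ}

/-- the relations -/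
structure Rel (x y : k → Γ) : Prop where
  one : ∀ f : k, f ≠ 0 → ∀ g : k, (x f * y (-f⁻¹) * x f) * x g * (x f * y (-f⁻¹) * x f)⁻¹ = y (-(f⁻¹ ^ 2 * g))
  two : ∀ f : k, f ≠ 0 → ∀ g : k, (x f * y (-f⁻¹) * x f) * y g * (x f * y (-f⁻¹) * x f)⁻¹ = x (-(f ^ 2 * g))

theorem Rel.one' (R : Rel x y) (g : k) : (x 1 * y (-1) * x 1) * x g * (x 1 * y (-1) * x 1)⁻¹ = y (-g) := by
  have h := R.one 1 one_ne_zero g
  simpa using h

theorem Rel.two' (R : Rel x y) (g : k) : (x 1 * y (-1) * x 1) * y g * (x 1 * y (-1) * x 1)⁻¹ = x (-g) := by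
  have h := R.two 1 one_ne_zero g
  simpa using h

theorem Rel.hx (R : Rel x y) {f : k} (hf : f ≠ 0) (g : k) :
    ((x f * y (-f⁻¹) * x f) * (x 1 * y (-1) * x 1)⁻¹) * x g *
      ((x f * y (-f⁻¹) * x f) * (x 1 * y (-1) * x 1)⁻¹)⁻¹ = x (f ^ 2 * g) := by
  have h1 := R.two' (-g)
  rw [neg_neg] at h1
  have h2 := R.two f hf (-g)
  rw [mul_neg, neg_neg] at h2
  rw [← h1, ← h2]
  group

theorem Rel.hy (R : Rel x y) {f : k} (hf : f ≠ 0) (g : k) :
    ((x f * y (-f⁻¹) * x f) * (x 1 * y (-1) * x 1)⁻¹) * y g *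
      ((x f * y (-f⁻¹) * x f) * (x 1 * y (-1) * x 1)⁻¹)⁻¹ = y (f⁻¹ ^ 2 * g) := by
  have h1 := R.one' (-g)
  rw [neg_neg] at h1
  have h2 := R.one f hf (-g)
  rw [mul_neg, neg_neg] at h2
  rw [← h1, ← h2]
  group

end Rel

section
variable {F K : Type u} [Field F] [Field K] [Algebra F K] {φ : K ≃ₐ[F] K} [Cub φ] {p n : ℕ}
variable [Fact p.Prime] {G : Subgroup (Equiv.Perm (V1 F K))} {Dc : Set (K × F × (K ≃+* K) × (F ≃+* F))}
  {H : Subgroup (Equiv.Perm (V1 F K))} {P0 : Sylow p ↥G} (C : Ctx φ p n G Dc H P0)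

theorem pres_tor (hy : HypD φ p n) {g : Equiv.Perm (V1 F K)} {s : K} {t : F} {τ : K ≃+* K} {ρ : F ≃+* F}
    (hp : Pres φ g) (h : IsTorV φ g s t τ ρ) : nm φ s * t ^ 2 = 1 ∧ ∀ c, ρ c = c := by
  have h1 : ∀ c : F, nm φ s * t ^ 2 * ρ c = c := by
    intro c
    have h2 := formV_torV hy h (c, 0, 0, 0) (0, 0, 0, 1)
    rw [hp] at h2
    have h3 : formV φ ((c, 0, 0, 0) : V1 F K) (0, 0, 0, 1) = c := by
      show c * 1 - 0 * 0 - tr φ (0 * 0) + tr φ (0 * 0) = c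
      rw [mul_zero, mul_zero, tr_zero]
      ring
    rw [h3] at h2
    exact h2.symm
  have h2 := h1 1
  rw [map_one, mul_one] at h2
  refine ⟨h2, fun c => ?_⟩
  have h3 := h1 c
  rw [h2, one_mul] at h3
  exact h3

include C in
/-- the elements normalizing both Sylow subgroups and generated by them -/
theorem tor_of {k : Type*} [Field k] {x y : k → ↥G} (R : Rel x y) {P' : Sylow p ↥G} (hP' : P' ≠ P0)
    (hfix : ∀ h : ↥H, hG C h • P' = P') (hrx : Set.range x = (P0 : Subgroup ↥G)) (hry : Set.range y = (P' : Subgroup ↥G))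
    {f : k} (hf : f ≠ 0) :
    ∃ s t τ ρ, (s, t, τ, ρ) ∈ Dc ∧ nm φ s * t ^ 2 = 1 ∧ (∀ c : F, ρ c = c) ∧
      IsTorV φ (((x f * y (-f⁻¹) * x f) * (x 1 * y (-1) * x 1)⁻¹ : ↥G) : Equiv.Perm (V1 F K)) s t τ ρ := by
  have hx : ∀ a, x a ∈ (P0 : Subgroup ↥G) := fun a => by
    rw [← SetLike.mem_coe, ← hrx]; exact ⟨a, rfl⟩
  have hy : ∀ a, y a ∈ (P' : Subgroup ↥G) := fun a => by
    rw [← SetLike.mem_coe, ← hry]; exact ⟨a, rfl⟩
  have h0 : ((x f * y (-f⁻¹) * x f) * (x 1 * y (-1) * x 1)⁻¹) • P0 = P0 := by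
    refine smul_eq_of _ P0 P0 fun z hz => ?_
    rw [← SetLike.mem_coe, ← hrx] at hz
    obtain ⟨g, rfl⟩ := hz
    rw [R.hx hf]
    exact hx _
  have h1 : ((x f * y (-f⁻¹) * x f) * (x 1 * y (-1) * x 1)⁻¹) • P' = P' := by
    refine smul_eq_of _ P' P' fun z hz => ?_
    rw [← SetLike.mem_coe, ← hry] at hz
    obtain ⟨g, rfl⟩ := hz
    rw [R.hy hf]
    exact hy _
  obtain ⟨s, t, τ, ρ, hD, hT⟩ := (C.memH _).1 (mem_H_of C hP' hfix h0 h1)
  have px : ∀ a, Pres φ (x a : Equiv.Perm (V1 F K)) := fun a => pres_of_mem C (hx a)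
  have py : ∀ a, Pres φ (y a : Equiv.Perm (V1 F K)) := fun a => pres_of_mem C (hy a)
  have hp : Pres φ (((x f * y (-f⁻¹) * x f) * (x 1 * y (-1) * x 1)⁻¹ : ↥G) : Equiv.Perm (V1 F K)) :=
    ((((px f).mul (py _)).mul (px f)).mul ((((px 1).mul (py _)).mul (px 1)).inv))
  obtain ⟨e1, e2⟩ := pres_tor C.hy hp hT
  exact ⟨s, t, τ, ρ, hD, e1, e2, hT⟩

include C in
/-- the parametrization of `P₀` by the field `k` is the identification of `k` with `K` -/
theorem exists_iso {k : Type*} [Field k] [Finite k] (hk : Nat.card k = p ^ (3 * n)) {x y : k → ↥G} (R : Rel x y)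
    {P' : Sylow p ↥G} (hP' : P' ≠ P0) (hfix : ∀ h : ↥H, hG C h • P' = P')
    (hrx : Set.range x = (P0 : Subgroup ↥G)) (hry : Set.range y = (P' : Subgroup ↥G))
    (ix : Function.Injective x) (ax : ∀ a b, x (a + b) = x a * x b) :
    ∃ (κ : K) (e : k ≃+* K), κ ≠ 0 ∧ ∀ a, x a = xG C (κ * e a) := by
  classical
  have hx : ∀ a, x a ∈ (P0 : Subgroup ↥G) := fun a => by
    rw [← SetLike.mem_coe, ← hrx]; exact ⟨a, rfl⟩
  choose θ hθ using fun a => exists_xG C (hx a)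
  have hadd : ∀ a b, θ (a + b) = θ a + θ b := by
    intro a b
    apply xG_injective C
    rw [← hθ, ax, hθ, hθ, xG_add]
  have hinj : Function.Injective θ := by
    intro a b hab
    apply ix
    rw [hθ, hθ, hab]
  have hsur : Function.Surjective θ := by
    intro c
    have h1 : xG C c ∈ Set.range x := by
      rw [hrx]
      exact xG_mem C c
    obtain ⟨a, ha⟩ := h1
    refine ⟨a, xG_injective C ?_⟩
    rw [← hθ, ha]
  have hzero : θ 0 = 0 := by
    have h := hadd 0 0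
    rw [add_zero] at h
    exact left_eq_add.1 h
  have hone : θ 1 ≠ 0 := by
    intro h
    exact one_ne_zero (hinj (h.trans hzero.symm))
  -- the semilinear maps
  have hM : ∀ f : k, f ≠ 0 → ∃ (s : K) (σ : K ≃ₐ[F] K), s ≠ 0 ∧ ∀ g, θ (f ^ 2 * g) = s * σ (θ g) := by
    intro f hf
    obtain ⟨s, t, τ, ρ, -, -, hρ, hT⟩ := tor_of C R hP' hfix hrx hry hf
    refine ⟨s, AlgEquiv.ofRingEquiv (f := τ) (fun c => by rw [hT.res, hρ]), hT.nes, fun g => ?_⟩
    apply xG_injective C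
    rw [← hθ, ← R.hx hf, hθ g, mul_inv_eq_iff_eq_mul]
    exact Subtype.ext (torV_conj C.hy hT (θ g))
  have : Nonempty (K ≃ₐ[F] K) := ⟨1⟩
  choose! S sg hS hMS using hM
  have hsig : ∀ f : k, f ≠ 0 → sg f = 1 := by
    intro f0 hf0
    by_contra hne
    have h3 : ∀ f : k, f ≠ 0 → ∃ c : F, c ≠ 0 ∧ ∀ g, θ (f ^ 6 * g) = algebraMap F K c * θ g := by
      intro f hf
      have e1 : ∀ g, θ (f ^ 6 * g) = (S f * sg f (S f) * sg f (sg f (S f))) * θ g := by
        intro g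
        have e2 : f ^ 6 * g = f ^ 2 * (f ^ 2 * (f ^ 2 * g)) := by ring
        rw [e2, hMS f hf, hMS f hf, hMS f hf, map_mul, map_mul, map_mul, gal_cube C.hy]
        ring
      set c := S f * sg f (S f) * sg f (sg f (S f)) with hc
      have hc0 : c ≠ 0 := by
        rw [hc]
        refine mul_ne_zero (mul_ne_zero (hS f hf) ?_) ?_
        · exact (map_ne_zero _).2 (hS f hf)
        · exact (map_ne_zero _).2 ((map_ne_zero _).2 (hS f hf))
      have e3 : sg f0 c = c := by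
        have e4 := hMS f0 hf0 (f ^ 6 * 1)
        rw [e1, map_mul, show f0 ^ 2 * (f ^ 6 * 1) = f ^ 6 * (f0 ^ 2 * 1) by ring, e1, hMS f0 hf0] at e4
        have e5 : sg f0 (θ 1) ≠ 0 := (map_ne_zero _).2 hone
        have e6 : (S f0 * sg f0 (θ 1)) * c = (S f0 * sg f0 (θ 1)) * sg f0 c := by linear_combination e4
        exact (mul_left_cancel₀ (mul_ne_zero (hS f0 hf0) e5) e6).symm
      obtain ⟨d, hd⟩ := gal_fixed C.hy hne e3
      refine ⟨d, ?_, fun g => by rw [hd, e1]⟩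
      rintro rfl
      rw [map_zero] at hd
      exact hc0 hd.symm
    have hpow : ∀ f : k, f ≠ 0 → f ^ (6 * (p ^ n - 1)) = 1 := by
      intro f hf
      obtain ⟨c, hc, hcg⟩ := h3 f hf
      have e1 : ∀ m : ℕ, ∀ g, θ (f ^ (6 * m) * g) = algebraMap F K (c ^ m) * θ g := by
        intro m
        induction m with
        | zero => intro g; simp
        | succ m ih =>
          intro g
          have e2 : f ^ (6 * (m + 1)) * g = f ^ (6 * m) * (f ^ 6 * g) := by ring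
          rw [e2, ih, hcg, pow_succ, map_mul]
          ring
      have hfF := finF C.hy
      let _ : Fintype F := Fintype.ofFinite F
      have e2 : c ^ (p ^ n - 1) = 1 := by
        rw [← C.hy.card, Nat.card_eq_fintype_card]
        exact FiniteField.pow_card_sub_one_eq_one c hc
      have e3 := e1 (p ^ n - 1) 1
      rw [e2, map_one, one_mul, mul_one] at e3
      exact hinj e3
    let _ : Fintype k := Fintype.ofFinite k
    have hdvd := (FiniteField.forall_pow_eq_one_iff k (6 * (p ^ n - 1))).1 (fun u => by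
      apply Units.ext
      rw [Units.val_pow_eq_pow_val, Units.val_one]
      exact hpow u u.ne_zero)
    rw [← Nat.card_eq_fintype_card, hk, mul_comm 3 n, pow_mul] at hdvd
    have hq := two_le C.hy
    generalize p ^ n = q at hdvd hq
    have hle := Nat.le_of_dvd (by omega) hdvd
    obtain ⟨r, rfl⟩ : ∃ r, q = r + 1 := ⟨q - 1, by omega⟩
    have h4 : (r + 1) ^ 3 - 1 = r * (r ^ 2 + 3 * r + 3) := by
      have : (r + 1) ^ 3 = r * (r ^ 2 + 3 * r + 3) + 1 := by ring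
      omega
    rw [h4, Nat.add_sub_cancel, mul_comm 6 r] at hle
    have h5 := Nat.le_of_mul_le_mul_left hle (by omega)
    nlinarith
  have hS1 : ∀ f : k, f ≠ 0 → ∀ g, θ (f ^ 2 * g) = S f * θ g := by
    intro f hf g
    rw [hMS f hf, hsig f hf]
    rfl
  have hmul : ∀ a b, (θ 1)⁻¹ * θ (a * b) = ((θ 1)⁻¹ * θ a) * ((θ 1)⁻¹ * θ b) := by
    intro a b
    let A : AddSubgroup k :=
      { carrier := {a | (θ 1)⁻¹ * θ (a * b) = ((θ 1)⁻¹ * θ a) * ((θ 1)⁻¹ * θ b)}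
        zero_mem' := by
          show (θ 1)⁻¹ * θ (0 * b) = ((θ 1)⁻¹ * θ 0) * ((θ 1)⁻¹ * θ b)
          rw [zero_mul, hzero]
          ring
        add_mem' := by
          intro a a' (ha : (θ 1)⁻¹ * θ (a * b) = ((θ 1)⁻¹ * θ a) * ((θ 1)⁻¹ * θ b))
            (ha' : (θ 1)⁻¹ * θ (a' * b) = ((θ 1)⁻¹ * θ a') * ((θ 1)⁻¹ * θ b))
          show (θ 1)⁻¹ * θ ((a + a') * b) = ((θ 1)⁻¹ * θ (a + a')) * ((θ 1)⁻¹ * θ b)
          rw [add_mul, hadd, hadd, mul_add, ha, ha']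
          ring
        neg_mem' := by
          intro a (ha : (θ 1)⁻¹ * θ (a * b) = ((θ 1)⁻¹ * θ a) * ((θ 1)⁻¹ * θ b))
          show (θ 1)⁻¹ * θ (-a * b) = ((θ 1)⁻¹ * θ (-a)) * ((θ 1)⁻¹ * θ b)
          have hneg : ∀ c, θ (-c) = -θ c := by
            intro c
            have h := hadd c (-c)
            rw [add_neg_cancel, hzero] at h
            exact (neg_eq_of_add_eq_zero_right h.symm).symm
          rw [neg_mul, hneg, hneg, mul_neg, ha]
          ring }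
    have h := add_squares A (fun f => by
      show (θ 1)⁻¹ * θ (f ^ 2 * b) = ((θ 1)⁻¹ * θ (f ^ 2)) * ((θ 1)⁻¹ * θ b)
      by_cases hf : f = 0
      · subst hf
        rw [zero_pow two_ne_zero, zero_mul, hzero]
        ring
      · have e1 := hS1 f hf 1
        rw [mul_one] at e1
        rw [hS1 f hf, e1]
        field_simp) a
    exact h
  let T : k →+* K :=
    { toFun := fun a => (θ 1)⁻¹ * θ a
      map_one' := inv_mul_cancel₀ hone
      map_mul' := hmul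
      map_zero' := by rw [hzero, mul_zero]
      map_add' := fun a b => by rw [hadd, mul_add] }
  have hbij : Function.Bijective T := by
    constructor
    · intro a b hab
      exact hinj (mul_left_cancel₀ (inv_ne_zero hone) hab)
    · intro c
      obtain ⟨a, ha⟩ := hsur (θ 1 * c)
      exact ⟨a, by show (θ 1)⁻¹ * θ a = c; rw [ha, inv_mul_cancel_left₀ hone]⟩
  refine ⟨θ 1, RingEquiv.ofBijective T hbij, hone, fun a => ?_⟩
  rw [hθ a]
  congr 1
  show θ a = θ 1 * ((θ 1)⁻¹ * θ a)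
  rw [mul_inv_cancel_left₀ hone]

include C in
theorem norm_form {z : ↥G} (h0 : z • P0 = P0) :
    ∃ a s t τ ρ, (s, t, τ, ρ) ∈ Dc ∧ ∃ y : Equiv.Perm (V1 F K), IsTorV φ y s t τ ρ ∧
      (z : Equiv.Perm (V1 F K)) = aP φ a * y := by
  obtain ⟨s, t, τ, ρ, hD, x, y, ⟨a, hx⟩, hy, hxy⟩ := C.hL.norm z.1 z.2 (by
    intro a x hx
    rw [isActV_iff] at hx
    subst hx
    have h2 := conj_mem_smul z P0 (xG_mem C a)
    rw [h0] at h2
    obtain ⟨b, hb⟩ := (C.mem _).1 h2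
    exact ⟨b, (isActV_iff φ).2 hb⟩)
  rw [isActV_iff] at hx
  subst hx
  exact ⟨a, s, t, τ, ρ, hD, y, hy, hxy⟩

include C in
theorem exists_rkV {k : Type*} [Field k] [Finite k] (hk : Nat.card k = p ^ (3 * n)) {x y : k → ↥G} (R : Rel x y)
    {P' : Sylow p ↥G} (hP' : P' ≠ P0) (hfix : ∀ h : ↥H, hG C h • P' = P')
    (hrx : Set.range x = (P0 : Subgroup ↥G)) (hry : Set.range y = (P' : Subgroup ↥G))
    (ix : Function.Injective x) (ax : ∀ a b, x (a + b) = x a * x b) (ay : ∀ a b, y (a + b) = y a * y b)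
    (h3 : p ^ n = 3 → ((-1 : K), (1 : F), RingEquiv.refl K, RingEquiv.refl F) ∈ Dc) :
    ∃ X Y : K → ↥G, Rel X Y ∧ Set.range X = (P0 : Subgroup ↥G) ∧ Set.range Y = (P' : Subgroup ↥G) ∧
      RkV φ (fun a => (X a : Equiv.Perm (V1 F K))) (fun a => (Y a : Equiv.Perm (V1 F K))) := by
  obtain ⟨κ, e, hκ, he⟩ := exists_iso C hk R hP' hfix hrx hry ix ax
  have hXa : ∀ a, x (e.symm (κ⁻¹ * a)) = xG C a := by
    intro a
    rw [he, RingEquiv.apply_symm_apply, mul_inv_cancel_left₀ hκ]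
  have RXY : Rel (fun a => x (e.symm (κ⁻¹ * a))) (fun b => y (e.symm (κ * b))) := by
    have hY : ∀ f : K, e.symm (κ * -f⁻¹) = -(e.symm (κ⁻¹ * f))⁻¹ := by
      intro f
      rw [← map_inv₀, ← map_neg, mul_inv, inv_inv, mul_neg]
    have hu : ∀ f : K, f ≠ 0 → e.symm (κ⁻¹ * f) ≠ 0 := fun f hf =>
      (map_ne_zero _).2 (mul_ne_zero (inv_ne_zero hκ) hf)
    constructor
    · intro f hf g
      show (x (e.symm (κ⁻¹ * f)) * y (e.symm (κ * -f⁻¹)) * x (e.symm (κ⁻¹ * f))) * x (e.symm (κ⁻¹ * g)) *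
        (x (e.symm (κ⁻¹ * f)) * y (e.symm (κ * -f⁻¹)) * x (e.symm (κ⁻¹ * f)))⁻¹ = y (e.symm (κ * -(f⁻¹ ^ 2 * g)))
      rw [hY, R.one _ (hu f hf)]
      congr 1
      rw [← map_inv₀, ← map_pow, ← map_mul, ← map_neg]
      congr 1
      field_simp
    · intro f hf g
      show (x (e.symm (κ⁻¹ * f)) * y (e.symm (κ * -f⁻¹)) * x (e.symm (κ⁻¹ * f))) * y (e.symm (κ * g)) *
        (x (e.symm (κ⁻¹ * f)) * y (e.symm (κ * -f⁻¹)) * x (e.symm (κ⁻¹ * f)))⁻¹ = x (e.symm (κ⁻¹ * -(f ^ 2 * g)))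
      rw [hY, R.two _ (hu f hf)]
      congr 1
      rw [← map_pow, ← map_mul, ← map_neg]
      congr 1
      field_simp
  have rX : Set.range (fun a => x (e.symm (κ⁻¹ * a))) = (P0 : Subgroup ↥G) := by
    rw [← hrx]
    ext z
    constructor
    · rintro ⟨a, rfl⟩
      exact ⟨_, rfl⟩
    · rintro ⟨a, rfl⟩
      refine ⟨κ * e a, ?_⟩
      show x (e.symm (κ⁻¹ * (κ * e a))) = x a
      rw [inv_mul_cancel_left₀ hκ, RingEquiv.symm_apply_apply]
  have rY : Set.range (fun b => y (e.symm (κ * b))) = (P' : Subgroup ↥G) := by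
    rw [← hry]
    ext z
    constructor
    · rintro ⟨a, rfl⟩
      exact ⟨_, rfl⟩
    · rintro ⟨a, rfl⟩
      refine ⟨κ⁻¹ * e a, ?_⟩
      show y (e.symm (κ * (κ⁻¹ * e a))) = y a
      rw [mul_inv_cancel_left₀ hκ, RingEquiv.symm_apply_apply]
  have hYmem : ∀ b, y (e.symm (κ * b)) ∈ (P' : Subgroup ↥G) := fun b => by
    rw [← SetLike.mem_coe, ← hry]
    exact ⟨_, rfl⟩
  refine ⟨_, _, RXY, rX, rY, ?_⟩
  constructor
  · intro a
    rw [hXa]
    exact isActV_aP φ a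
  · intro a b
    show ((y (e.symm (κ * (a + b))) : ↥G) : Equiv.Perm (V1 F K)) = _
    rw [mul_add, map_add, ay]
    rfl
  · intro a v w
    exact C.hL.add _ (y (e.symm (κ * a))).2 v w
  · intro a
    exact pres_of_mem C (hYmem a)
  · intro f hf g
    exact congrArg Subtype.val (RXY.one f hf g)
  · intro f hf g
    exact congrArg Subtype.val (RXY.two f hf g)
  · intro f hf
    obtain ⟨s, t, τ, ρ, -, hn, hρ, hT⟩ := tor_of C RXY hP' hfix rX rY hf
    have key : ∀ g, s * τ g = f ^ 2 * g := by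
      intro g
      have h1 := RXY.hx hf g
      simp only [hXa] at h1
      rw [mul_inv_eq_iff_eq_mul] at h1
      have h2 := torV_conj C.hy hT g
      have h3 := congrArg (Subtype.val : ↥G → Equiv.Perm (V1 F K)) h1
      simp only [hXa] at h2
      have h4 : aP φ (s * τ g) = aP φ (f ^ 2 * g) := by
        apply mul_right_cancel (b := (((xG C f * y (e.symm (κ * -f⁻¹)) * xG C f) *
          (xG C 1 * y (e.symm (κ * -1)) * xG C 1)⁻¹ : ↥G) : Equiv.Perm (V1 F K)))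
        exact h2.symm.trans h3
      exact aP_injective φ h4
    have hs : s = f ^ 2 := by
      have h1 := key 1
      rwa [map_one, mul_one, mul_one] at h1
    subst hs
    have hτ : τ = RingEquiv.refl K := by
      ext g
      exact mul_left_cancel₀ (pow_ne_zero 2 hf) (key g)
    have hρ' : ρ = RingEquiv.refl F := by
      ext c
      exact hρ c
    subst hτ hρ'
    refine ⟨t, ?_, hT⟩
    rw [pow_two f, nm_mul] at hn
    linear_combination hn
  · intro hF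
    have h4 : p ^ n = 3 := by rw [← C.hy.card, hF]
    obtain ⟨g, hg, hT⟩ := C.hL.tor _ _ _ _ (h3 h4)
    refine ⟨g, hT, fun b => ?_⟩
    have hgH : g ∈ H := (C.memH g).2 ⟨_, _, _, _, h3 h4, hT⟩
    have h5 := conj_mem_smul (hG C ⟨g, hgH⟩) P' (hYmem b)
    rw [hfix, ← SetLike.mem_coe, ← rY] at h5
    obtain ⟨c, hc⟩ := h5
    exact ⟨c, (congrArg Subtype.val hc).symm⟩
  · intro hF b v
    have hp2 : p = 2 := by
      have h4 : p ^ n = 2 := by rw [← C.hy.card, hF]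
      have h5 : p ∣ 2 := h4 ▸ dvd_pow_self p (Nat.one_le_iff_ne_zero.1 C.hy.hn)
      exact (Nat.prime_dvd_prime_iff_eq C.hy.pp Nat.prime_two).1 h5
    obtain ⟨ζ, hζ⟩ := C.hL.quad hp2 _ (y (e.symm (κ * b))).2
    show quadV φ (((y (e.symm (κ * b)) : ↥G) : Equiv.Perm (V1 F K)) v) = quadV φ v
    rw [hζ]
    have h6 : ∀ c : F, c = 0 ∨ c = 1 := by
      intro c
      by_contra hcon
      push Not at hcon
      have hfF := finF C.hy
      have h7 : ({0, 1, c} : Set F).ncard = 3 := by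
        rw [Set.ncard_eq_three]
        exact ⟨0, 1, c, zero_ne_one, hcon.1.symm, hcon.2.symm, rfl⟩
      have h8 := Set.ncard_le_card ({0, 1, c} : Set F)
      omega
    rcases h6 (quadV φ v) with h | h
    · rw [h, map_zero]
    · rw [h]
      rcases h6 (ζ 1) with h9 | h9
      · exact absurd (ζ.injective (h9.trans (map_zero ζ).symm)) one_ne_zero
      · exact h9

end

theorem stLin1 (h1 : StRk1.{u}) (h2 : StLin1b.{u}) : StLin1.{u} := by
  intro F K _ _ _ φ _ p n hy G Dc hL h3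
  have : Fact p.Prime := ⟨hy.pp⟩
  obtain ⟨P0, hP0⟩ := exists_syl hy hL
  obtain ⟨H, hcop, hH⟩ := hL.cop
  have C : Ctx φ p n G Dc H P0 := ⟨hy, hL, hP0, hcop, hH⟩
  have := hy.fin
  have := finV C
  have hcard : Nat.card ↥(P0 : Subgroup ↥G) = p ^ (3 * n) := by
    rw [mul_comm, pow_mul, ← hy.cardK]
    symm
    apply Nat.card_congr
    refine Equiv.ofBijective (fun a => (⟨xG C a, xG_mem C a⟩ : ↥(P0 : Subgroup ↥G))) ⟨?_, ?_⟩
    · intro a b hab
      exact xG_injective C (congrArg Subtype.val hab)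
    · rintro ⟨z, hz⟩
      obtain ⟨a, rfl⟩ := exists_xG C hz
      exact ⟨a, rfl⟩
  obtain ⟨hA, hB⟩ := h1 (G := ↥G) (p := p) (m := 3 * n) P0 (by have := hy.hn; omega) hcard
    (by
      intro x hx
      obtain ⟨a, rfl⟩ := exists_xG C hx
      exact Subtype.ext (aP_pow_p hy a))
    (by
      intro x hx y hy'
      obtain ⟨a, rfl⟩ := exists_xG C hx
      obtain ⟨b, rfl⟩ := exists_xG C hy'
      rw [← xG_add, ← xG_add, add_comm])
    (by
      intro g hg x hx hgx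
      by_contra hne
      exact hg (Sylow.smul_eq_iff_mem_normalizer.1 (ti C hx hne hgx)))
    (by
      intro hN
      obtain ⟨g, hg, a, x, hx, hn⟩ := hL.nn
      rw [isActV_iff] at hx
      subst hx
      apply hn
      have h4 := hN.conj_mem _ (xG_mem C a) ⟨g, hg⟩
      obtain ⟨b, hb⟩ := (C.mem _).1 h4
      exact ⟨b, (isActV_iff φ).2 hb⟩)
  have hA' : ∀ P' P'' : Sylow p ↥G, P' ≠ P0 → P'' ≠ P0 → ∃ x ∈ (P0 : Subgroup ↥G), x • P' = P'' := by
    intro P' P'' h h'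
    obtain ⟨x, hx, hxP⟩ := hA P' P'' h h'
    refine ⟨x, hx, smul_eq_of x P' P'' fun z hz => ?_⟩
    rw [← hxP]
    exact ⟨z, hz, rfl⟩
  obtain ⟨P', hP', hfix⟩ := exists_fixed C hA'
  obtain ⟨k, _, _, x, y, hk, hrx, hry, ix, iy, ax, ay, hrel⟩ := hB P' hP'
  have R : Rel x y := ⟨fun f hf g => (hrel f hf g).1, fun f hf g => (hrel f hf g).2⟩
  obtain ⟨X, Y, RXY, rX, rY, hRk⟩ := exists_rkV C (by rw [Nat.card_eq_fintype_card, hk]) R hP' hfix hrx hry ix ax ay h3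
  obtain ⟨hW, hTor⟩ := h2 hy _ _ hRk
  have hWe : ∀ {g g' : Equiv.Perm (V1 F K)}, IsW1V g → IsW1V g' → g = g' := by
    intro g g' hg hg'
    ext1 v
    rw [hg v, hg' v]
  refine ⟨fun a ha => ?_, fun g hg => ?_, fun g hg => ?_⟩
  · obtain ⟨s, t, τ, ρ, hD, -, -, hT⟩ := tor_of C RXY hP' hfix rX rY ha
    obtain ⟨rfl, rfl, rfl, rfl⟩ := torV_uniq hT (hTor a ha)
    exact hD
  · rw [hWe hg hW]
    exact (X 1 * Y (-1) * X 1 : ↥G).2
  · have hX : ∀ a, X a ∈ (P0 : Subgroup ↥G) := fun a => by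
      rw [← SetLike.mem_coe, ← rX]; exact ⟨a, rfl⟩
    have hY : ∀ a, Y a ∈ (P' : Subgroup ↥G) := fun a => by
      rw [← SetLike.mem_coe, ← rY]; exact ⟨a, rfl⟩
    have hcl : ∀ {z : ↥G}, z ∈ (P0 : Subgroup ↥G) → (z : Equiv.Perm (V1 F K)) ∈
        Subgroup.closure {x : Equiv.Perm (V1 F K) | (∃ a, IsActV φ x a) ∨ IsW1V x} := by
      intro z hz
      obtain ⟨a, rfl⟩ := exists_xG C hz
      exact Subgroup.subset_closure (Or.inl ⟨a, isActV_aP φ a⟩)
    by_cases h0 : (⟨g, hg⟩ : ↥G) • P0 = P0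
    · obtain ⟨a, s, t, τ, ρ, hD, z, hz, hgz⟩ := norm_form C h0
      exact ⟨aP φ a, hcl (xG_mem C a), s, t, τ, ρ, hD, z, hz, hgz⟩
    · have hWP : (X 1 * Y (-1) * X 1) • P0 = P' := by
        refine smul_eq_of _ P0 P' fun z hz => ?_
        rw [← SetLike.mem_coe, ← rX] at hz
        obtain ⟨a, rfl⟩ := hz
        rw [RXY.one']
        exact hY _
      obtain ⟨w, hw, hwP⟩ := hA' P' _ hP' h0
      have h4 : ((w * (X 1 * Y (-1) * X 1))⁻¹ * ⟨g, hg⟩) • P0 = P0 := by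
        rw [mul_smul, ← hwP, ← hWP, ← mul_smul, ← mul_smul, mul_assoc _ w, inv_mul_cancel, one_smul]
      obtain ⟨a, s, t, τ, ρ, hD, z, hz, hgz⟩ := norm_form C h4
      refine ⟨(w : Equiv.Perm (V1 F K)) * ((X 1 * Y (-1) * X 1 : ↥G) : Equiv.Perm (V1 F K)) * aP φ a, ?_, s, t, τ, ρ, hD,
        z, hz, ?_⟩
      · exact mul_mem (mul_mem (hcl hw) (Subgroup.subset_closure (Or.inr hW))) (hcl (xG_mem C a))
      · have h5 : g = ((w * (X 1 * Y (-1) * X 1) : ↥G) : Equiv.Perm (V1 F K)) *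
            (((w * (X 1 * Y (-1) * X 1))⁻¹ * ⟨g, hg⟩ : ↥G) : Equiv.Perm (V1 F K)) := by
          rw [← Subgroup.coe_mul, mul_inv_cancel_left]
        rw [h5, hgz, mul_assoc, mul_assoc]
        rfl

end Cfsg.Agent.H673.D4
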